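import Groth.Agent.OmegaLib.IdealMod
import Groth.Agent.InvX.GenLocusPull
import Groth.Agent.InvX.Tensor
import Groth.Agent.DivX.MeroMod
import Groth.Agent.HTopCov.AlmostBlowUp
import Groth.Agent.PicClLib.Basic

/-! The inverse image of an invertible ideal module is the ideal module of the inverse image. -/

set_option autoImplicit false
set_option linter.style.haveILetI false
set_option backward.isDefEq.respectTransparency false
set_option backward.isDefEq.respectTransparency.types false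

universe u

open CategoryTheory CategoryTheory.Limits AlgebraicGeometry TopologicalSpace Opposite

namespace Groth.Agent.CurveAlgEquiv

open Groth.Agent Groth.Agent.InvX

variable {X Y : Scheme.{u}}

/-- A generator of the ideal from a frame of its module. -/
theorem ideal_eq_span {I : X.IdealSheafData} (V : X.affineOpens) {ε : Γ(ClSub.idealMod I, V.1)} (hε : IsFrame ε) :
    I.ideal V = Ideal.span {OmegaSh.idealSect I V.1 ε} := by
  refine le_antisymm (fun g hg => ?_) ((Ideal.span_singleton_le_iff_mem _).2 (OmegaLib.idealSect_mem I V ε))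
  obtain ⟨k, hk⟩ := OmegaLib.exists_of_mem I V g hg
  obtain ⟨r, hr⟩ := hε.exists_coord le_rfl k
  rw [AModX.res_self] at hr
  exact Ideal.mem_span_singleton'.2 ⟨r, by rw [← hk, hr, OmegaLib.idealSect_smul]⟩

theorem nonempty_pullback_idealMod (s : Y ⟶ X) (I : X.IdealSheafData) (hI : PicF.IsInvertible (ClSub.idealMod I))
    (J : Y.IdealSheafData) (hJ : PicF.IsInvertible (ClSub.idealMod J)) (h : I.comap s = J) :
    Nonempty ((Scheme.Modules.pullback s).obj (ClSub.idealMod I) ≅ ClSub.idealMod J) := by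
  obtain ⟨e⟩ := PicClLib.nonempty_pullback_structureModule s
  let φ : (Scheme.Modules.pullback s).obj (ClSub.idealMod I) ⟶ Coh.structureModule Y :=
    (Scheme.Modules.pullback s).map (ClSub.idealModι I) ≫ e.hom
  -- charts with a frame upstairs
  have charts : ∀ (y : Y) (O : Y.Opens), y ∈ O → ∃ (V : X.affineOpens) (W : Y.affineOpens)
      (hWV : W.1 ≤ s ⁻¹ᵁ V.1) (ε : Γ(ClSub.idealMod I, V.1)), y ∈ W.1 ∧ W.1 ≤ O ∧ IsFrame ε := by
    intro y O hy
    obtain ⟨U, hU, ε, hε⟩ := exists_frame hI (s y)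
    obtain ⟨V, hV, hyV, hVU⟩ := exists_isAffineOpen_mem_and_subset hU
    obtain ⟨W, hW, hyW, hle⟩ := exists_isAffineOpen_mem_and_subset (show y ∈ (s ⁻¹ᵁ V) ⊓ O from ⟨hyV, hy⟩)
    exact ⟨⟨V, hV⟩, ⟨W, hW⟩, fun z hz => (hle hz).1, AModX.res _ hVU ε, hyW, fun z hz => (hle hz).2, hε.res hVU⟩
  -- the value of `φ` on a chart
  have val : ∀ (V : X.affineOpens) (W : Y.affineOpens) (hWV : W.1 ≤ s ⁻¹ᵁ V.1) (ε : Γ(ClSub.idealMod I, V.1)),
      ∃ c : Γ(Y, W.1), IsUnit c ∧ (show Γ(Y, W.1) from φ.app W.1 (AModX.res _ hWV (pullElt s ε))) =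
        (s.appLE V.1 W.1 hWV).hom (OmegaSh.idealSect I V.1 ε) * c := by
    intro V W hWV ε
    let one : Γ(Coh.structureModule X, V.1) := (1 : Γ(X, V.1))
    let c₀ : Γ(Coh.structureModule Y, W.1) := e.hom.app W.1 (AModX.res _ hWV (pullElt s one))
    refine ⟨c₀, ?_, ?_⟩
    · have hf : IsFrame c₀ := ((isFrame_pullElt s (isFrame_one V.1)).res hWV).map_iso e
      obtain ⟨r, hr⟩ := hf.exists_coord le_rfl (show Γ(Coh.structureModule Y, W.1) from (1 : Γ(Y, W.1)))
      rw [AModX.res_self] at hr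
      exact IsUnit.of_mul_eq_one_right r (show r * (show Γ(Y, W.1) from c₀) = 1 from hr.symm)
    · let u : Γ(X, V.1) := OmegaSh.idealSect I V.1 ε
      have hι : (ClSub.idealModι I).app V.1 ε = u • one :=
        (mul_one ((show Γ(X, V.1) from (ClSub.idealModι I).app V.1 ε))).symm
      have h1 : φ.app W.1 (AModX.res _ hWV (pullElt s ε)) =
          e.hom.app W.1 (AModX.res _ hWV (s.app V.1 u • pullElt s one)) := by
        show e.hom.app W.1 (((Scheme.Modules.pullback s).map (ClSub.idealModι I)).app W.1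
          (AModX.res _ hWV (pullElt s ε))) = _
        rw [AModX.app_res, map_pullElt, hι, pullElt_smul]
      rw [h1, AModX.res_smul, Scheme.Modules.Hom.app_smul]
      rfl
  have hcov : ∀ y : Y, ∃ (V : X.affineOpens) (W : Y.affineOpens)
      (hWV : W.1 ≤ s ⁻¹ᵁ V.1) (ε : Γ(ClSub.idealMod I, V.1)), y ∈ W.1 ∧ IsFrame ε := fun y => by
    obtain ⟨V, W, hWV, ε, hy, -, hε⟩ := charts y ⊤ trivial
    exact ⟨V, W, hWV, ε, hy, hε⟩
  choose V W hWV ε hyW hε using hcov
  have hker : φ ≫ ClSub.toSubscheme J = 0 := by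
    refine hom_ext_of_frames (fun y => (W y).1) (fun y => ⟨y, hyW y⟩)
      (fun y => AModX.res _ (hWV y) (pullElt s (ε y)))
      (fun y => (isFrame_pullElt s (hε y)).res (hWV y)) fun y => ?_
    obtain ⟨c, -, hc⟩ := val _ _ (hWV y) (ε y)
    show J.subschemeι.app (W y).1 (show Γ(Y, (W y).1) from φ.app (W y).1 _) = (0 : Γ(J.subscheme, _))
    rw [hc, ← RingHom.mem_ker, J.ker_subschemeι_app]
    refine Ideal.mul_mem_right _ _ ?_
    rw [← h, HTopCov.ideal_comap_appLE s I (V y) (W y) (hWV y)]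
    exact Ideal.mem_map_of_mem _ (OmegaLib.idealSect_mem I _ _)
  let ψ : (Scheme.Modules.pullback s).obj (ClSub.idealMod I) ⟶ ClSub.idealMod J :=
    kernel.lift (ClSub.toSubscheme J) φ hker
  have hψ : ψ ≫ ClSub.idealModι J = φ := kernel.lift_ι _ _ _
  haveI : IsIso ψ := by
    refine DivX.isIso_of_frames ψ fun y => ?_
    obtain ⟨O, hyO, ε', hε'⟩ := exists_frame hJ y
    obtain ⟨V, W, hWV, ε, hy, hWO, hε⟩ := charts y O hyO
    let a := AModX.res _ hWV (pullElt s ε)
    refine ⟨W.1, hy, a, (isFrame_pullElt s hε).res hWV, ?_⟩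
    let b := AModX.res _ hWO ε'
    have hb : IsFrame b := hε'.res hWO
    obtain ⟨g, hg⟩ := hb.exists_coord le_rfl (ψ.app W.1 a)
    rw [AModX.res_self] at hg
    rw [hg]
    refine hb.isUnit_smul ?_
    obtain ⟨c, hcu, hc⟩ := val V W hWV ε
    let r₀ : Γ(Y, W.1) := (s.appLE V.1 W.1 hWV).hom (OmegaSh.idealSect I V.1 ε)
    let u' : Γ(Y, W.1) := OmegaSh.idealSect J W.1 b
    have h1 : r₀ * c = g * u' := by
      rw [← OmegaLib.idealSect_smul, ← hg]
      exact hc.symm.trans (congr(($hψ).app W.1 a)).symm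
    have h2 : u' ∈ Ideal.span {r₀} := by
      have h3 := OmegaLib.idealSect_mem J W b
      have h4 : J.ideal W = Ideal.span {r₀} := by
        rw [← h, HTopCov.ideal_comap_appLE s I V W hWV, ideal_eq_span V hε, Ideal.map_span, Set.image_singleton]
      rwa [h4] at h3
    obtain ⟨r, hr⟩ := Ideal.mem_span_singleton'.1 h2
    obtain ⟨d, hd⟩ := hcu.exists_right_inv
    have h5 : (1 - r * (g * d)) * u' = 0 := by
      linear_combination (-1 : Γ(Y, W.1)) * hr + r * d * h1 - r * r₀ * hd
    rw [← OmegaLib.idealSect_smul] at h5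
    have h6 := hb.coord_unique le_rfl (r := 1 - r * (g * d)) (r' := 0) (by
      rw [AModX.res_self, zero_smul]
      exact OmegaLib.idealSect_injective J _ (h5.trans (map_zero _).symm))
    exact IsUnit.of_mul_eq_one (r * d) (by linear_combination -h6)
  exact ⟨asIso ψ⟩

end Groth.Agent.CurveAlgEquiv
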