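import Groth.Agent.CurveAlgEquiv.PullIdeal
import Groth.Agent.H23.PicMul
import Groth.Agent.Lib.CurvePoint
import Groth.Agent.HilbCurve.Affine
import Groth.Agent.RelCurveDiv.Scheme
import Groth.Agent.S8914
import Groth.Agent.S5342
import Groth.Prelude.Def_Pic13
import Mathlib.AlgebraicGeometry.AlgClosed.Basic

/-! Classes algebraically equivalent to zero on a curve: products, and differences of points. -/

set_option autoImplicit false
set_option linter.style.haveILetI false
set_option linter.unusedSectionVars false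
set_option backward.isDefEq.respectTransparency false
set_option backward.isDefEq.respectTransparency.types false

universe u

open CategoryTheory CategoryTheory.Limits AlgebraicGeometry TopologicalSpace Opposite

namespace Groth.Agent.CurveAlgEquiv

open Groth.Agent Groth.Agent.CurvePoint Groth.Agent.H23
open scoped Groth.Agent.H23.PicMul

variable (k : Type u) [Field k] (C : Scheme.{u}) [C.Over (Spec (CommRingCat.of k))]

/-- Classes algebraically equivalent to zero. -/
def AE (c : PicF.Cl C) : Prop :=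
  ∃ (T : Scheme.{u}) (q : T ⟶ Spec (CommRingCat.of k)), ConnectedSpace T ∧ LocallyOfFiniteType q ∧ QuasiCompact q ∧
    ∃ m : PicF.Cl (Pic13.prodK k C q), PicF.IsInvertibleCl m ∧
      ∃ (t t₀ : Spec (CommRingCat.of k) ⟶ T) (ht : t ≫ q = 𝟙 _) (ht₀ : t₀ ≫ q = 𝟙 _),
        PicF.pullCl (Pic13.sliceAt k C q t ht) m = c ∧ PicF.pullCl (Pic13.sliceAt k C q t₀ ht₀) m = 1

variable {k C}

theorem ae_iff (L : C.Modules) : AE k C (PicF.cl L) ↔ Pic13.IsAlgEquivZero k C L := by
  constructor
  · rintro ⟨T, q, h1, h2, h3, m, ⟨M, rfl, hM⟩, t, t₀, ht, ht₀, e, e₀⟩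
    exact ⟨T, q, h1, h2, h3, M, hM, t, t₀, ht, ht₀, PicMul.cl_eq_iff.1 e, PicMul.cl_eq_iff.1 e₀⟩
  · rintro ⟨T, q, h1, h2, h3, M, hM, t, t₀, ht, ht₀, e, e₀⟩
    exact ⟨T, q, h1, h2, h3, PicF.cl M, ⟨M, rfl, hM⟩, t, t₀, ht, ht₀, PicMul.cl_eq_iff.2 e, PicMul.cl_eq_iff.2 e₀⟩

theorem isInvertibleCl_one {Z : Scheme.{u}} : PicF.IsInvertibleCl (1 : PicF.Cl Z) :=
  ⟨_, rfl, InvX.isInvertible_structureModule⟩

theorem isInvertibleCl_pull {Z W : Scheme.{u}} (g : W ⟶ Z) {c : PicF.Cl Z} (hc : PicF.IsInvertibleCl c) :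
    PicF.IsInvertibleCl (PicF.pullCl g c) := PicLoc.isInvertibleCl_pullCl g hc

theorem AE.mul {c c' : PicF.Cl C} (h : AE k C c) (h' : AE k C c') : AE k C (c * c') := by
  obtain ⟨T, q, h1, h2, h3, m, hm, t, t₀, ht, ht₀, e, e₀⟩ := h
  obtain ⟨T', q', h1', h2', h3', m', hm', t', t₀', ht', ht₀', e', e₀'⟩ := h'
  haveI := h2; haveI := h3; haveI := h2'; haveI := h3'
  haveI := h1; haveI := h1'
  let qq : pullback q q' ⟶ Spec (CommRingCat.of k) := pullback.fst q q' ≫ q
  let P : Pic13.prodK k C qq ⟶ Pic13.prodK k C q :=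
    pullback.lift (pullback.fst _ _) (pullback.snd _ _ ≫ pullback.fst q q') (by rw [Category.assoc, pullback.condition])
  let P' : Pic13.prodK k C qq ⟶ Pic13.prodK k C q' :=
    pullback.lift (pullback.fst _ _) (pullback.snd _ _ ≫ pullback.snd q q')
      (by rw [Category.assoc, ← pullback.condition (f := q) (g := q'), pullback.condition])
  let pt : ∀ (a : Spec (CommRingCat.of k) ⟶ T) (a' : Spec (CommRingCat.of k) ⟶ T') (_ : a ≫ q = 𝟙 _) (_ : a' ≫ q' = 𝟙 _),
      Spec (CommRingCat.of k) ⟶ pullback q q' := fun a a' ha ha' => pullback.lift a a' (ha.trans ha'.symm)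
  have hpt : ∀ a a' ha ha', pt a a' ha ha' ≫ qq = 𝟙 _ := fun a a' ha ha' => by
    simp only [pt, qq, pullback.lift_fst_assoc, ha]
  have hP : ∀ a a' ha ha', Pic13.sliceAt k C qq (pt a a' ha ha') (hpt a a' ha ha') ≫ P = Pic13.sliceAt k C q a ha :=
    fun a a' ha ha' => by
      apply pullback.hom_ext <;> simp [P, pt, Pic13.sliceAt]
  have hP' : ∀ a a' ha ha', Pic13.sliceAt k C qq (pt a a' ha ha') (hpt a a' ha ha') ≫ P' = Pic13.sliceAt k C q' a' ha' :=
    fun a a' ha ha' => by
      apply pullback.hom_ext <;> simp [P', pt, Pic13.sliceAt]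
  refine ⟨pullback q q', qq, S5342.result k T T' q q' t ht, inferInstance, inferInstance,
    PicF.pullCl P m * PicF.pullCl P' m', PicMul.isInvertibleCl_mul (isInvertibleCl_pull P hm) (isInvertibleCl_pull P' hm'),
    pt t t' ht ht', pt t₀ t₀' ht₀ ht₀', hpt t t' ht ht', hpt t₀ t₀' ht₀ ht₀', ?_, ?_⟩
  · rw [PicMul.pullCl_mul, ← PicLoc.pullCl_comp, ← PicLoc.pullCl_comp, hP t t' ht ht', hP' t t' ht ht', e, e']
  · rw [PicMul.pullCl_mul, ← PicLoc.pullCl_comp, ← PicLoc.pullCl_comp, hP t₀ t₀' ht₀ ht₀', hP' t₀ t₀' ht₀ ht₀', e₀, e₀', mul_one]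

theorem AE.one [ConnectedSpace C] [LocallyOfFiniteType (C ↘ Spec (CommRingCat.of k))]
    [QuasiCompact (C ↘ Spec (CommRingCat.of k))] (a : Spec (CommRingCat.of k) ⟶ C)
    (ha : a ≫ (C ↘ Spec (CommRingCat.of k)) = 𝟙 _) : AE k C 1 :=
  ⟨C, C ↘ Spec (CommRingCat.of k), inferInstance, inferInstance, inferInstance, 1, isInvertibleCl_one, a, a, ha, ha,
    PicMul.pullCl_one _, PicMul.pullCl_one _⟩

variable [IsAlgClosed k] [IsProper (C ↘ Spec (CommRingCat.of k))] [Smooth (C ↘ Spec (CommRingCat.of k))] [IsIntegral C]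

theorem exists_rational (a : C) (ha : IsClosed ({a} : Set C)) :
    ∃ s : Spec (CommRingCat.of k) ⟶ C, s ≫ (C ↘ Spec (CommRingCat.of k)) = 𝟙 _ ∧
      s (IsLocalRing.closedPoint k) = a := by
  obtain ⟨⟨s, hs⟩, h⟩ := (pointEquivClosedPoint (C ↘ Spec (CommRingCat.of k))).surjective ⟨a, ha⟩
  exact ⟨s, hs, congrArg Subtype.val h⟩

theorem ker_rational (a : C) (ha : IsClosed ({a} : Set C)) (s : Spec (CommRingCat.of k) ⟶ C)
    (hs : s ≫ (C ↘ Spec (CommRingCat.of k)) = 𝟙 _) (hsa : s (IsLocalRing.closedPoint k) = a) :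
    s.ker = ptIdeal a ha := by
  haveI := isClosedImmersion_of_comp_eq_id _ _ hs
  haveI : Subsingleton ↥(Spec (CommRingCat.of k)) := inferInstanceAs (Subsingleton (PrimeSpectrum k))
  have hr : Set.range s = {a} := Set.ext fun z => ⟨fun ⟨w, hw⟩ => by
    rw [← hw, Subsingleton.elim w (IsLocalRing.closedPoint k), hsa]; rfl, fun hz => ⟨_, hsa.trans hz.symm⟩⟩
  have hrad : s.ker.radical = s.ker := by
    ext U : 2
    rw [Scheme.IdealSheafData.radical_ideal, Scheme.Hom.ker_apply]
    refine le_antisymm (fun z hz => ?_) Ideal.le_radical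
    obtain ⟨n, hn⟩ := hz
    rw [RingHom.mem_ker, map_pow] at hn
    exact RingHom.mem_ker.2 (IsReduced.eq_zero _ ⟨n, hn⟩)
  have hsupp : s.ker.support = (⟨{a}, ha⟩ : Closeds C) := Closeds.ext (by
    rw [s.support_ker, hr, ha.closure_eq]; rfl)
  rw [← hrad, ← Scheme.IdealSheafData.vanishingIdeal_support, hsupp]

/-- The difference of two points is algebraically equivalent to zero. -/
theorem AE.points (hdim : topologicalKrullDim ↥C = 1) (a b : C) (ha : IsClosed ({a} : Set C))
    (hb : IsClosed ({b} : Set C)) {d : PicF.Cl C} (hd : PicF.IsInvertibleCl d) (hbd : PicF.cl (ptMod b hb) * d = 1) :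
    AE k C (PicF.cl (ptMod a ha) * d) := by
  obtain ⟨sa, hsa, rfl⟩ := exists_rational (k := k) a ha
  obtain ⟨sb, hsb, rfl⟩ := exists_rational (k := k) b hb
  let f := C ↘ Spec (CommRingCat.of k)
  haveI : SmoothOfRelativeDimension 1 f := HilbCurve.smoothOfRelativeDimension_one f hdim
  let δ : C ⟶ pullback f f := pullback.diagonal f
  haveI : IsClosedImmersion δ := inferInstanceAs (IsClosedImmersion (pullback.diagonal f))
  haveI : SmoothOfRelativeDimension 1 (pullback.snd f f) := by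
    haveI : MorphismProperty.IsStableUnderBaseChange (@SmoothOfRelativeDimension.{u} 1) :=
      smoothOfRelativeDimension_isStableUnderBaseChange 1
    exact MorphismProperty.pullback_snd (P := @SmoothOfRelativeDimension 1) _ _ inferInstance
  have hflf : Mor2.IsFinLocFree (δ.ker.subschemeι ≫ pullback.snd f f) := by
    have e : δ.ker.subschemeι ≫ pullback.snd f f = inv δ.toImage := by
      have h0 : δ.toImage ≫ δ.ker.subschemeι = δ := δ.toImage_imageι
      refine IsIso.eq_inv_of_hom_inv_id ?_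
      rw [← Category.assoc, h0]
      exact pullback.diagonal_snd f
    rw [e]
    exact ⟨inferInstance, inferInstance, inferInstance⟩
  have hinv : PicF.IsInvertible (ClSub.idealMod δ.ker) :=
    (S8914.result δ.ker).2 (RelCurveDiv.isEffCartier_of_finLocFree (pullback.snd f f) δ.ker hflf).1
  have hslice : ∀ (s : Spec (CommRingCat.of k) ⟶ C) (hs : s ≫ f = 𝟙 _) (hc : IsClosed ({s (IsLocalRing.closedPoint k)} : Set C)),
      PicF.pullCl (Pic13.sliceAt k C f s hs) (PicF.cl (ClSub.idealMod δ.ker)) =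
        PicF.cl (ptMod (s (IsLocalRing.closedPoint k)) hc) := by
    intro s hs hc
    let σ := Pic13.sliceAt k C f s hs
    have hpb : IsPullback s s σ δ := by
      refine ⟨⟨?_⟩, ⟨PullbackCone.IsLimit.mk _ (fun c => c.fst ≫ f) ?_ ?_ ?_⟩⟩
      · apply pullback.hom_ext <;> simp [σ, δ, Pic13.sliceAt, f, reassoc_of% hs]
      all_goals intro c
      all_goals have g1 : σ ≫ pullback.fst f f = 𝟙 C := pullback.lift_fst _ _ _
      all_goals have g2 : σ ≫ pullback.snd f f = f ≫ s := pullback.lift_snd _ _ _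
      all_goals have h1 := congrArg (· ≫ pullback.fst f f) c.condition
      all_goals have h2 := congrArg (· ≫ pullback.snd f f) c.condition
      all_goals simp only [δ, Category.assoc, g1, g2,
        pullback.diagonal_fst, pullback.diagonal_snd, Category.comp_id] at h1 h2
      · rw [Category.assoc]
        exact h2.trans h1.symm
      · rw [Category.assoc]
        exact h2
      · intro m hm _
        rw [← hm, Category.assoc, hs, Category.comp_id]
    have hker : δ.ker.comap σ = ptIdeal (s (IsLocalRing.closedPoint k)) hc := by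
      rw [← Scheme.IdealSheafData.ker_fst_of_isClosedImmersion, ← ker_rational _ hc s hs rfl,
        ← hpb.isoPullback_hom_fst, Scheme.Hom.ker_comp_of_isIso]
    exact PicMul.cl_eq_iff.2 (nonempty_pullback_idealMod σ δ.ker hinv _ (isInvertible_ptMod _ hc k hdim) hker)
  have hid : ∀ (s : Spec (CommRingCat.of k) ⟶ C) (hs : s ≫ f = 𝟙 _),
      PicF.pullCl (Pic13.sliceAt k C f s hs) (PicF.pullCl (pullback.fst f f) d) = d := fun s hs => by
    rw [← PicLoc.pullCl_comp]
    show PicF.pullCl (pullback.lift _ _ _ ≫ pullback.fst f f) d = d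
    rw [pullback.lift_fst]
    exact PicClLib.pullCl_id d
  refine ⟨C, f, inferInstance, inferInstance, inferInstance,
    PicF.cl (ClSub.idealMod δ.ker) * PicF.pullCl (pullback.fst f f) d,
    PicMul.isInvertibleCl_mul ⟨_, rfl, hinv⟩ (isInvertibleCl_pull _ hd), sa, sb, hsa, hsb, ?_, ?_⟩
  · rw [PicMul.pullCl_mul, hslice sa hsa ha, hid sa hsa]
  · rw [PicMul.pullCl_mul, hslice sb hsb hb, hid sb hsb, hbd]

end Groth.Agent.CurveAlgEquiv
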