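import Groth.Agent.CurveAlgEquiv.Group
import Groth.Agent.FamEuler.Main
import Groth.Agent.CurveVA.Twist
import Groth.Agent.AmpleX.FiniteSet
import Groth.Agent.Nakai.KleimanDeg
import Groth.Agent.Snapper.DimVanish
import Groth.Agent.H23.Seesaw
import Groth.Agent.CurveBC.Main
import Groth.Agent.CurveCohLib.SmoothCurve

/-! On a smooth proper connected curve, algebraic equivalence to zero is degree zero. -/

set_option autoImplicit false
set_option linter.style.haveILetI false
set_option linter.unusedSectionVars false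
set_option backward.isDefEq.respectTransparency false
set_option backward.isDefEq.respectTransparency.types false

universe u

open CategoryTheory CategoryTheory.Limits AlgebraicGeometry TopologicalSpace Opposite

namespace Groth.Agent.CurveAlgEquiv

open Groth.Agent Groth.Agent.CurvePoint Groth.Agent.H23
open scoped Groth.Agent.H23.PicMul

section Degree

variable {k : Type u} [Field k] [IsAlgClosed k] {C : Scheme.{u}} [C.Over (Spec (CommRingCat.of k))]
  [IsProper (C ↘ Spec (CommRingCat.of k))] [Smooth (C ↘ Spec (CommRingCat.of k))] [IsIntegral C]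

theorem deg_structureModule : Curv2.deg k C (Coh.structureModule C) 1 = 0 := by
  unfold Curv2.deg; simp

theorem deg_eq_of_cl_eq {L M : C.Modules} (h : PicF.cl L = PicF.cl M) :
    Curv2.deg k C L 1 = Curv2.deg k C M 1 :=
  CurveRR.deg_congr k (PicMul.cl_eq_iff.1 h).some 1

include k in
/-- A section vanishing at a point comes from the twist by the point. -/
theorem exists_section_twist (hdim : topologicalKrullDim ↥C = 1) {L : C.Modules} (hL : PicF.IsInvertible L)
    (φ : Coh.structureModule C ⟶ L) (hφ : φ ≠ 0) {a : C} (ha : IsClosed ({a} : Set C))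
    (hgen : a ∉ CohB1.genLocus L φ) :
    ∃ φ' : Coh.structureModule C ⟶ CohB1.tensorMod (ptMod a ha) L, φ' ≠ 0 := by
  obtain ⟨ψ, hmono, hψ⟩ := CurveVA.exists_twist k hdim hL ha
  haveI := hmono
  let z : Γ(L, ⊤) := InvX.one φ
  have hz : z ≠ 0 := fun h0 => hφ (by
    refine Scheme.Modules.hom_ext _ _ fun W => ?_
    ext r
    refine (InvX.app_eq_smul φ r).trans ?_
    show (show Γ(C, W) from r) • AModX.res L (le_top : W ≤ ⊤) z = _
    rw [h0, map_zero, smul_zero]
    rfl)
  obtain ⟨t, ht⟩ := hψ.exists_preimage hL z fun x U e he hxU => by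
    obtain ⟨g, hg⟩ := he.exists_coord le_rfl (AModX.res L (le_top : U ≤ ⊤) z)
    rw [AModX.res_self] at hg
    have hc : CurveVA.coord he hxU (L.presheaf.germ ⊤ x trivial z) = C.presheaf.germ U x hxU g := by
      rw [← InvX.germ_res' (le_top : U ≤ ⊤) hxU z, hg, QCoh.germ_smul', CurveVA.coord_smul_germ]
    by_cases hxa : x = a
    · subst hxa
      rw [CurveVA.ptJ_self, hc]
      exact fun hu => hgen ((AmpleX.mem_genLocus_iff φ he hg hxU).2 hu)
    · rw [CurveVA.ptJ_ne hxa]
      trivial
  refine ⟨QCoh.homOfTop t, fun h0 => hz ?_⟩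
  have h1 : t = 0 := by
    have h2 := QCoh.homOfTop_app t (W := ⊤) (1 : Γ(C, ⊤))
    rw [h0] at h2
    rw [one_smul, show (homOfLE (le_top : (⊤ : C.Opens) ≤ ⊤)).op = 𝟙 _ from rfl, CategoryTheory.Functor.map_id] at h2
    exact h2.symm
  rw [← ht, h1, map_zero]

/-- Effective divisors, moved to a multiple of a point. -/
theorem ae_of_section (hdim : topologicalKrullDim ↥C = 1) (b : C) (hb : IsClosed ({b} : Set C)) (n : ℕ) :
    ∀ (L : C.Modules), PicF.IsInvertible L → ∀ φ : Coh.structureModule C ⟶ L, φ ≠ 0 →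
      Curv2.deg k C L 1 = n → AE k C (PicF.cl L * PicF.cl (ptMod b hb) ^ n) := by
  induction n with
  | zero =>
    intro L hL φ hφ hn
    obtain ⟨-, h2⟩ := CurveDeg.deg_le_and_isIso k hdim.le InvX.isInvertible_structureModule hL φ hφ
    haveI := h2 (by rw [deg_structureModule, hn]; rfl)
    obtain ⟨sb, hsb, -⟩ := exists_rational (k := k) b hb
    rw [pow_zero, mul_one, show PicF.cl L = 1 from PicMul.cl_eq_iff.2 ⟨(asIso φ).symm⟩]
    exact AE.one sb hsb
  | succ n ih =>
    intro L hL φ hφ hn
    have hne : ((CohB1.genLocus L φ : C.Opens) : Set C)ᶜ.Nonempty := by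
      by_contra h0
      rw [Set.not_nonempty_iff_eq_empty, Set.compl_empty_iff] at h0
      haveI : IsIso φ := DivX.isIso_of_frames φ fun x => by
        obtain ⟨U, hxU, hU⟩ := InvX.mem_genLocus (s := φ) (x := x) (h0 ▸ Set.mem_univ x : x ∈ (CohB1.genLocus L φ : Set C))
        refine ⟨U, hxU, _, InvX.isFrame_one U, ?_⟩
        have h3 : φ.app U (show Γ(Coh.structureModule C, U) from (1 : Γ(C, U))) = AModX.res L (le_top : U ≤ ⊤) (InvX.one φ) := by
          rw [InvX.app_eq_smul, one_smul]
        rw [h3]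
        exact hU
      have h4 := CurveRR.deg_congr k (asIso φ).symm 1
      rw [hn, deg_structureModule] at h4
      omega
    haveI := CurveCohLib.isNoetherian_of_proper (k := k) (X := C)
    obtain ⟨a, hag, ha⟩ := IsClosed.exists_closed_singleton (CohB1.genLocus L φ).isOpen.isClosed_compl hne
    obtain ⟨φ', hφ'⟩ := exists_section_twist (k := k) hdim hL φ hφ ha hag
    have hP := isInvertible_ptMod a ha k hdim
    have hL' := InvX.isInvertible_tensorMod hP hL
    have hdeg : Curv2.deg k C (CohB1.tensorMod (ptMod a ha) L) 1 = n := by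
      refine (CurveRR.deg_tensor k hdim hP hL).trans ?_
      rw [deg_ptMod a ha k, hn]
      push_cast
      ring
    have h1 := ih _ hL' φ' hφ' hdeg
    obtain ⟨D, hD, eD⟩ := PicInv.exists_inverse hP
    have hd : PicF.cl (ptMod a ha) * PicF.cl D = 1 := PicMul.cl_eq_iff.2 eD
    have h2 := h1.mul (AE.points hdim b a hb ha ⟨D, rfl, hD⟩ hd)
    have key : PicF.cl L * PicF.cl (ptMod b hb) ^ (n + 1) =
        PicF.cl (CohB1.tensorMod (ptMod a ha) L) * PicF.cl (ptMod b hb) ^ n * (PicF.cl (ptMod b hb) * PicF.cl D) := by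
      rw [PicMul.cl_tensor]
      calc PicF.cl L * PicF.cl (ptMod b hb) ^ (n + 1)
          = (PicF.cl (ptMod a ha) * PicF.cl D) * (PicF.cl L * (PicF.cl (ptMod b hb) ^ n * PicF.cl (ptMod b hb))) := by
            rw [hd, one_mul, pow_succ]
        _ = _ := by ac_rfl
    rw [key]
    exact h2

theorem ae_of_deg_zero (hdim : topologicalKrullDim ↥C = 1) {L : C.Modules} (hL : PicF.IsInvertible L)
    (h0 : Curv2.deg k C L 1 = 0) : AE k C (PicF.cl L) := by
  haveI := CurveCohLib.isNoetherian_of_proper (k := k) (X := C)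
  haveI : ConnectedSpace C := inferInstance
  obtain ⟨b, -, hb⟩ := IsClosed.exists_closed_singleton (isClosed_univ (X := C)) Set.univ_nonempty
  have hP := isInvertible_ptMod b hb k hdim
  obtain ⟨D, hD, eD⟩ := PicInv.exists_inverse hP
  have hd : PicF.cl (ptMod b hb) * PicF.cl D = 1 := PicMul.cl_eq_iff.2 eD
  have hdegD : Curv2.deg k C D 1 = 1 := by
    have h1 := deg_eq_of_cl_eq (k := k) (show PicF.cl (CohB1.tensorMod (ptMod b hb) D) = PicF.cl (Coh.structureModule C) from hd)
    have h2 := CurveRR.deg_tensor k hdim hP hD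
    rw [deg_ptMod b hb k] at h2
    rw [deg_structureModule] at h1
    have h3 : (-1 : ℤ) + Curv2.deg k C D 1 = 0 := h2.symm.trans h1
    omega
  have main : ∀ N : ℕ, ∃ L' : C.Modules, PicF.IsInvertible L' ∧
      PicF.cl L' * PicF.cl (ptMod b hb) ^ N = PicF.cl L ∧ Curv2.deg k C L' 1 = N := fun N => by
    induction N with
    | zero => exact ⟨L, hL, by rw [pow_zero, mul_one], by rw [h0]; rfl⟩
    | succ N ih =>
      obtain ⟨L', hL', e1, e2⟩ := ih
      refine ⟨CohB1.tensorMod L' D, InvX.isInvertible_tensorMod hL' hD, ?_, ?_⟩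
      · rw [PicMul.cl_tensor, pow_succ]
        calc PicF.cl L' * PicF.cl D * (PicF.cl (ptMod b hb) ^ N * PicF.cl (ptMod b hb))
            = (PicF.cl L' * PicF.cl (ptMod b hb) ^ N) * (PicF.cl (ptMod b hb) * PicF.cl D) := by ac_rfl
          _ = PicF.cl L := by rw [hd, mul_one, e1]
      · refine (CurveRR.deg_tensor k hdim hL' hD).trans ?_
        rw [hdegD, e2]
        push_cast
        ring
  obtain ⟨L', hL', e1, e2⟩ := main (Curv2.genus k C)
  have hc := CurveDeg.isCoh_of_isInvertible hL'
  have h1 := CurveRR.euler_eq_h0_sub_h1 k hdim.le hc.1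
  have h2 := CurveRR.euler_structureModule k hdim.le (X := C)
  unfold Curv2.deg at e2
  have h3 : 0 < Module.finrank k (Coh.HH C L' 0) := by omega
  haveI := Module.nontrivial_of_finrank_pos h3
  obtain ⟨t, ht⟩ := exists_ne (0 : Coh.HH C L' 0)
  rw [← e1]
  exact ae_of_section hdim b hb _ L' hL' _ (CurveSpecial.homOfClass_ne_zero ht) (by unfold Curv2.deg; exact e2)

end Degree

section Family

variable {k : Type u} [Field k] {C : Scheme.{u}} [C.Over (Spec (CommRingCat.of k))]
  [IsProper (C ↘ Spec (CommRingCat.of k))]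

set_option maxHeartbeats 1000000 in
theorem fibreEuler_at_point (hdim : topologicalKrullDim ↥C ≤ 1) {T : Scheme.{u}} (q : T ⟶ Spec (CommRingCat.of k))
    [IsLocallyNoetherian T] {M : (Pic13.prodK k C q).Modules} (hM : PicF.IsInvertible M)
    (t : Spec (CommRingCat.of k) ⟶ T) (ht : t ≫ q = 𝟙 _) :
    FamEuler.fibreEuler (pullback.snd (C ↘ Spec (CommRingCat.of k)) q) M (t (IsLocalRing.closedPoint k)) =
      FGA.eulerCharLE k C (Pic13.fibreMod k C q t ht M) 1 := by
  let f := C ↘ Spec (CommRingCat.of k)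
  let pr := pullback.snd f q
  let p := t (IsLocalRing.closedPoint k)
  let φ : T.residueField p →+* k := (Scheme.descResidueField (Scheme.stalkClosedPointTo t)).hom
  have hfac : Spec.map (CommRingCat.ofHom φ) ≫ T.fromSpecResidueField p = t :=
    Scheme.descResidueField_stalkClosedPointTo_fromSpecResidueField k T t
  let σ : C ⟶ Pic13.prodK k C q := Pic13.sliceAt k C q t ht
  let h : C ⟶ pr.fiber p := pullback.lift σ (f ≫ Spec.map (CommRingCat.ofHom φ)) (by
    rw [Category.assoc, hfac]; exact pullback.lift_snd _ _ _)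
  have hh1 : h ≫ pr.fiberι p = σ := pullback.lift_fst _ _ _
  have hh2 : h ≫ pr.fiberToSpecResidueField p = f ≫ Spec.map (CommRingCat.ofHom φ) := pullback.lift_snd _ _ _
  have H1 : IsPullback σ f pr t := by
    refine IsPullback.of_right ?_ (pullback.lift_snd _ _ _).symm.symm (IsPullback.of_hasPullback f q)
    have e1 : σ ≫ pullback.fst f q = 𝟙 C := pullback.lift_fst _ _ _
    rw [e1, ht]
    exact IsPullback.of_horiz_isIso ⟨by rw [Category.id_comp, Category.comp_id]⟩
  have H2 : IsPullback h f (pr.fiberToSpecResidueField p) (Spec.map (CommRingCat.ofHom φ)) := by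
    refine IsPullback.of_right ?_ hh2 (IsPullback.of_hasPullback pr (T.fromSpecResidueField p))
    rw [hfac]
    exact hh1.symm ▸ H1
  letI : Algebra (T.residueField p) k := φ.toAlgebra
  haveI : IsProper pr := inferInstanceAs (IsProper (pullback.snd f q))
  haveI : IsProper (pr.fiberToSpecResidueField p) := inferInstanceAs (IsProper (pullback.snd pr (T.fromSpecResidueField p)))
  haveI : CompactSpace (pr.fiber p) := QuasiCompact.compactSpace_of_compactSpace (pr.fiberToSpecResidueField p)
  haveI : QuasiSeparatedSpace (pr.fiber p) := quasiSeparatedSpace_of_quasiSeparated (pr.fiberToSpecResidueField p)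
  have hqM : Coh.IsQCoh (CohIII.fiberMod pr M p) :=
    ProjUPX.isQCoh_of_isInvertible (PicClLib.isInvertible_pullback _ hM)
  let e : (Scheme.Modules.pullback h).obj (CohIII.fiberMod pr M p) ≅ Pic13.fibreMod k C q t ht M :=
    (Scheme.Modules.pullbackComp h (pr.fiberι p)).app M ≪≫ (Scheme.Modules.pullbackCongr hh1).app M
  have key : ∀ i, Module.finrank k (Coh.HH C (Pic13.fibreMod k C q t ht M) i) = CohIII.fiberRank pr M i p := fun i => by
    rw [← (CurveCohLib.hhEquiv (k := k) e i).finrank_eq]
    letI : (pr.fiber p).Over (Spec (CommRingCat.of (T.residueField p))) := ⟨pr.fiberToSpecResidueField p⟩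
    exact CurveBC.finrank_hh (T.residueField p) (X := pr.fiber p) k (X' := C) h H2 _ hqM i
  show (∑ᶠ j : ℕ, (-1 : ℤ) ^ j * (CohIII.fiberRank pr M j p : ℤ)) = _
  refine (finsum_eq_sum_of_support_subset (s := Finset.range 2) _ ?_).trans
    (Finset.sum_congr rfl fun j _ => by rw [key j])
  intro j hj
  rw [Finset.coe_range, Set.mem_Iio]
  by_contra hj2
  refine hj ?_
  haveI := CurveCohLib.isNoetherian_of_proper (k := k) (X := C)
  haveI : C.IsSeparated := ⟨by
    rw [show terminal.from C = f ≫ terminal.from _ from terminal.hom_ext _ _]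
    infer_instance⟩
  haveI : Subsingleton (Coh.HH C (Pic13.fibreMod k C q t ht M) j) :=
    Snapper.subsingleton_HH_of_dim_le (d := 1) hdim (ProjUPX.isQCoh_of_isInvertible (PicClLib.isInvertible_pullback _ hM))
      (by omega)
  show (-1 : ℤ) ^ j * (CohIII.fiberRank pr M j p : ℤ) = 0
  rw [← key j, Module.finrank_zero_of_subsingleton]
  simp

theorem eulerCharLE_eq_of_algEquiv (hdim : topologicalKrullDim ↥C ≤ 1) [Flat (C ↘ Spec (CommRingCat.of k))]
    {L : C.Modules} (h : Pic13.IsAlgEquivZero k C L) :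
    FGA.eulerCharLE k C L 1 = FGA.eulerCharLE k C (Coh.structureModule C) 1 := by
  obtain ⟨T, q, h1, h2, h3, M, hM, t, t₀, ht, ht₀, ⟨e⟩, ⟨e₀⟩⟩ := h
  haveI := h1; haveI := h2; haveI := h3
  haveI : IsLocallyNoetherian T := LocallyOfFiniteType.isLocallyNoetherian q
  haveI : IsLocallyNoetherian (Pic13.prodK k C q) :=
    LocallyOfFiniteType.isLocallyNoetherian (pullback.snd (C ↘ Spec (CommRingCat.of k)) q)
  haveI := KFlatLib.hasInjectiveResolutions_modules (X := Pic13.prodK k C q)
  have hlc := FamEuler.isLocallyConstant_fibreEuler (pullback.snd (C ↘ Spec (CommRingCat.of k)) q) M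
    (CurveDeg.isCoh_of_isInvertible hM) (H23.Seesaw.isFlatOver_of_isInvertible _ hM)
  have h' := hlc.apply_eq_of_preconnectedSpace (t (IsLocalRing.closedPoint k)) (t₀ (IsLocalRing.closedPoint k))
  rw [fibreEuler_at_point hdim q hM t ht, fibreEuler_at_point hdim q hM t₀ ht₀] at h'
  have he : ∀ {N N' : C.Modules} (e : N ≅ N'), FGA.eulerCharLE k C N 1 = FGA.eulerCharLE k C N' 1 := fun e =>
    Finset.sum_congr rfl fun i _ => by rw [(CurveCohLib.hhEquiv (k := k) e i).finrank_eq]
  rw [← he e, ← he e₀]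
  exact h'

end Family

theorem isAlgEquivZero_iff (k : Type u) [Field k] [IsAlgClosed k] (C : Scheme.{u})
    [C.Over (Spec (CommRingCat.of k))] [IsProper (C ↘ Spec (CommRingCat.of k))]
    [Smooth (C ↘ Spec (CommRingCat.of k))] [ConnectedSpace ↥C] (hdim : topologicalKrullDim ↥C = 1)
    {L : C.Modules} (hL : PicF.IsInvertible L) :
    Pic13.IsAlgEquivZero k C L ↔ Pic13.curveDeg k (C ↘ Spec (CommRingCat.of k)) L = 0 := by
  haveI : CompactSpace C := QuasiCompact.compactSpace_of_compactSpace (C ↘ Spec (CommRingCat.of k))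
  haveI : IsIntegral C := CurveCohLib.isIntegral_of_smooth_connected (C ↘ Spec (CommRingCat.of k))
  refine ⟨fun h => ?_, fun h => (ae_iff L).1 (ae_of_deg_zero hdim hL ?_)⟩
  · show FGA.eulerCharLE k C L 1 - FGA.eulerCharLE k C (Coh.structureModule C) 1 = 0
    rw [eulerCharLE_eq_of_algEquiv hdim.le h, sub_self]
  · rw [Nakai.curveDeg_eq_deg k _ hdim hL] at h
    exact h

end Groth.Agent.CurveAlgEquiv
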